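import Mathlib
import Cfsg.Agent.Lib.Helper70.HH.S3786Defs
import Cfsg.Agent.Lib.Helper32.TBCore
import Cfsg.Agent.Lib.Helper54.ThmBAbelian

/-!
# S3786, packages (M1) `WTB` and (M2) `ModA` (helper1)

Weak Theorem B and the exceptional case of Theorem B for a `p`-soluble group with `O_p = 1`
acting faithfully in characteristic `p`, from Theorem B for `Q ⟨x⟩` (`Helper32.tb_flex`) by base
change to the algebraic closure.
-/

set_option autoImplicit false

namespace Cfsg.Agent.Lib.Helper1.HH86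

open Module Cfsg.Agent.Lib.Helper70.HH86

universe u v w

/-- The common core of (M1) and (M2): Theorem B for an element of order `p ^ n` of a
`p`-soluble group with `O_p = 1`, faithful in characteristic `p` (any field). -/
theorem thmB_core {p : ℕ} [Fact p.Prime] {F : Type w} [Field F] [CharP F p] {H : Type u}
    [Group H] [Finite H] {V : Type v} [AddCommGroup V] [Module F V] [FiniteDimensional F V]
    (ρ : Representation F H V) (x : H) (n r : ℕ)
    (hsol : Cfsg.IsPSolvable p H) (hcore : Cfsg.pCore p H = ⊥) (hinj : Function.Injective ρ)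
    (_hn : 1 ≤ n) (hxn : x ^ p ^ n = 1) (hx1 : x ^ p ^ (n - 1) ≠ 1) (hr : (ρ x - 1) ^ r = 0) :
    ∃ (q : ℕ) (_ : q.Prime) (R : Subgroup H), q ≠ p ∧ IsPGroup q R ∧
      Cfsg.Agent.Lib.Helper32.TBconcl p q n r (∃ a ∈ R, ∃ b ∈ R, a * b ≠ b * a) := by
  classical
  have : CharP (AlgebraicClosure F) p :=
    charP_of_injective_algebraMap (algebraMap F (AlgebraicClosure F)).injective p
  have hbc : Function.Injective (Module.End.baseChangeHom F (AlgebraicClosure F) V) :=
    LinearMap.baseChangeHom_injective F V (AlgebraicClosure F)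
  let ρ' : Representation (AlgebraicClosure F) H (TensorProduct F (AlgebraicClosure F) V) :=
    ((Module.End.baseChangeHom F (AlgebraicClosure F) V : Module.End F V →ₐ[F] _) :
      Module.End F V →* _).comp ρ
  have hρapp : ∀ g : H, ρ' g = Module.End.baseChangeHom F (AlgebraicClosure F) V (ρ g) :=
    fun g => rfl
  have hρinj : Function.Injective ρ' := by
    intro a b hab
    rw [hρapp, hρapp] at hab
    exact hinj (hbc hab)
  have hsub : ∀ g : H, ρ' g - 1 =
      Module.End.baseChangeHom F (AlgebraicClosure F) V (ρ g - 1) := by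
    intro g
    rw [hρapp, map_sub, map_one]
  have hr' : (ρ' x - 1) ^ r = 0 := by
    rw [hsub, ← map_pow, hr, map_zero]
  -- the base-changed module is nontrivial
  have hnt : Nontrivial (TensorProduct F (AlgebraicClosure F) V) := by
    by_contra hcon
    rw [not_nontrivial_iff_subsingleton] at hcon
    apply hx1
    apply hρinj
    apply LinearMap.ext
    intro v
    exact Subsingleton.elim _ _
  -- the `q`-subgroup
  have hU : IsPGroup p (Subgroup.zpowers x) :=
    Cfsg.Agent.Lib.Helper11.isPGroup_zpowers_of_pow _ hxn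
  obtain ⟨q, hq, R, hqp, hRq, hUR, hyR⟩ :=
    Cfsg.Agent.Lib.Helper54.exists_normalized_not_centralized_of_mem hsol hcore
      (Subgroup.zpowers x) hU (x ^ p ^ (n - 1))
      (Subgroup.pow_mem _ (Subgroup.mem_zpowers x) _) hx1
  have : Fact q.Prime := ⟨hq⟩
  refine ⟨q, hq, R, hqp, hRq, ?_⟩
  have hxR : x ∈ Subgroup.normalizer (R : Set H) := hUR (Subgroup.mem_zpowers x)
  have h1 := Cfsg.Agent.Lib.Helper32.tb_flex (AlgebraicClosure F) p q (Ne.symm hqp)
    (Nat.card R + finrank (AlgebraicClosure F) (TensorProduct F (AlgebraicClosure F) V))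
    R x ρ' n r hRq
    (fun a ha => (Subgroup.mem_normalizer_iff.1 hxR a).1 ha)
    (fun a _ => by rw [hxn, one_mul, mul_one])
    (fun _ => by
      have h2 : ¬ ∀ a ∈ R, a * x ^ p ^ (n - 1) = x ^ p ^ (n - 1) * a := by
        intro h3
        apply hyR
        rw [Subgroup.mem_centralizer_iff]
        intro a ha
        exact h3 a ha
      push Not at h2
      obtain ⟨a, ha, hne⟩ := h2
      refine ⟨a, ha, fun h4 => hne (hρinj h4).symm⟩)
    hr' le_rfl
  refine h1.mono ?_
  rintro ⟨a, ha, b, hb, hab⟩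
  exact ⟨a, ha, b, hb, fun h => hab (by rw [h])⟩

/-- (M1) Weak Theorem B. -/
theorem wtb : WTB.{u, v, w} := by
  intro p _ F _ _ H _ _ V _ _ _ ρ x n r hsol hcore hinj hn hxn hx1 hr
  have hpp : p.Prime := Fact.out
  obtain ⟨q, hq, R, hqp, hRq, hc⟩ := thmB_core ρ x n r hsol hcore hinj hn hxn hx1 hr
  have hsplit : p ^ n = p ^ (n - 1) * p := by
    rw [← pow_succ]
    congr 1
    omega
  have hlow : p ^ (n - 1) * (p - 1) ≤ p ^ n := by
    rw [hsplit]
    exact Nat.mul_le_mul_left _ (Nat.sub_le _ _)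
  rcases hc with h1 | ⟨n₀, m, h1, h2, h3, h4, h5, h6⟩
  · exact hlow.trans h1
  · refine le_trans ?_ h6
    -- `p ^ (n - 1) * (p - 1) ≤ p ^ (n - n₀) * (p ^ n₀ - 1)`
    have e1 : p ^ (n - 1) = p ^ (n - n₀) * p ^ (n₀ - 1) := by
      rw [← pow_add]
      congr 1
      omega
    rw [e1, mul_assoc]
    apply Nat.mul_le_mul_left
    have e2 : p ^ n₀ = p ^ (n₀ - 1) * p := by
      rw [← pow_succ]
      congr 1
      omega
    have hpos : 1 ≤ p ^ (n₀ - 1) := Nat.one_le_pow _ _ hpp.pos
    rw [e2, Nat.mul_sub, mul_one]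
    exact Nat.sub_le_sub_left hpos _

/-- (M2) Theorem B, exceptional case. -/
theorem modA : ModA.{u, v, w} := by
  intro p _ F _ _ H _ _ V _ _ _ ρ x n hp2 hsol hcore hinj hn hxn hx1 hr
  have hpp : p.Prime := Fact.out
  obtain ⟨q, hq, R, hqp, hRq, hc⟩ := thmB_core ρ x n (p ^ n - 1) hsol hcore hinj hn hxn hx1 hr
  have hpn : 1 ≤ p ^ n := Nat.one_le_pow _ _ hpp.pos
  rcases hc with h1 | ⟨n₀, m, h1, h2, h3, h4, h5, h6⟩
  · omega
  · -- `p` odd, so `p ^ n₀ - 1` is even and `q = 2`
    have hodd : Odd p := hpp.odd_of_ne_two hp2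
    have hodd' : Odd (p ^ n₀) := hodd.pow
    have heven : Even (p ^ n₀ - 1) := by
      obtain ⟨c, hc⟩ := hodd'
      exact ⟨c, by omega⟩
    have hq2 : q = 2 := by
      rw [h4] at heven
      have h2q : 2 ∣ q ^ m := even_iff_two_dvd.1 heven
      have h2q' : 2 ∣ q := Nat.Prime.dvd_of_dvd_pow Nat.prime_two h2q
      exact ((Nat.prime_dvd_prime_iff_eq Nat.prime_two hq).1 h2q').symm
    subst hq2
    refine ⟨?_, R, hRq, h5⟩
    -- `p - 1 ∣ p ^ n₀ - 1 = 2 ^ m`
    have hdvd : p - 1 ∣ p ^ n₀ - 1 := by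
      have := Nat.sub_dvd_pow_sub_pow p 1 n₀
      simpa using this
    rw [h4] at hdvd
    obtain ⟨k, _, hk⟩ := (Nat.dvd_prime_pow Nat.prime_two).1 hdvd
    refine ⟨k, ?_⟩
    have := hpp.one_lt
    omega

end Cfsg.Agent.Lib.Helper1.HH86
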